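import Groth.Prelude.Def_AlgEqCyc
import Groth.Agent.ArSurfBasics.Fibre
import Mathlib.AlgebraicGeometry.Morphisms.Separated
import Mathlib.RingTheory.SimpleModule.Basic
import Mathlib.RingTheory.Length

/-!
The graph of a closed immersion of a curve as a family of zero-cycles.
-/

set_option autoImplicit false

universe u

open CategoryTheory CategoryTheory.Limits AlgebraicGeometry IsLocalRing

namespace Groth.AlgEqCycLib

section Mult

variable {P C : Scheme.{u}} [IsIntegral C] (Γ : C ⟶ P) [IsClosedImmersion Γ] (g : P ⟶ C)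

theorem specMap_generic_injective (y : C) (h : genericPoint C ⤳ y) :
    Function.Injective (Cyc.specMap y (genericPoint C) h) := by
  have h1 : Function.Injective (C.presheaf.stalkSpecializes h).hom := by
    letI := (C.presheaf.stalkSpecializes h).hom.toAlgebra
    exact IsFractionRing.injective (C.presheaf.stalk y) C.functionField
  have h2 : Function.Injective (C.residue (genericPoint C)).hom :=
    RingHom.injective (C.residue (genericPoint C)).hom
  exact h2.comp h1

theorem ker_specMap_eq (y : C) (h : Γ (genericPoint C) ⤳ Γ y) :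
    RingHom.ker (Cyc.specMap (Γ y) (Γ (genericPoint C)) h) = RingHom.ker (Γ.stalkMap y).hom := by
  have hs : genericPoint C ⤳ y := genericPoint_specializes y
  have hcomm : ∀ r, (Γ.residueFieldMap (genericPoint C)).hom
      (Cyc.specMap (Γ y) (Γ (genericPoint C)) h r) =
      Cyc.specMap y (genericPoint C) hs ((Γ.stalkMap y).hom r) := fun r => by
    have e1 := Scheme.Hom.stalkSpecializes_stalkMap Γ (genericPoint C) y hs
    have e2 := Scheme.residue_residueFieldMap Γ (genericPoint C)
    show (P.presheaf.stalkSpecializes h ≫ P.residue _ ≫ Γ.residueFieldMap _) r =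
      (Γ.stalkMap y ≫ C.presheaf.stalkSpecializes hs ≫ C.residue _) r
    rw [e2, ← Category.assoc, e1, Category.assoc]
  ext r
  rw [RingHom.mem_ker, RingHom.mem_ker]
  rw [← (RingHom.injective (Γ.residueFieldMap (genericPoint C)).hom).eq_iff, map_zero, hcomm,
    ← map_zero (Cyc.specMap y (genericPoint C) hs), (specMap_generic_injective y hs).eq_iff]

/-- A section meets a fibre with multiplicity one. -/
theorem fibreMult_section (hg : Γ ≫ g = 𝟙 C) (y : C) (h : Γ (genericPoint C) ⤳ Γ y) :
    AlgEqCyc.fibreMult g (Γ y) (Γ (genericPoint C)) h = 1 := by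
  let π₁ := Ideal.Quotient.mk (RingHom.ker (Cyc.specMap (Γ y) (Γ (genericPoint C)) h))
  let I := (maximalIdeal (C.presheaf.stalk (g (Γ y)))).map (π₁.comp (g.stalkMap (Γ y)).hom)
  let f : P.presheaf.stalk (Γ y) →ₗ[P.presheaf.stalk (Γ y)]
      (Cyc.LocQuot (Γ y) (Γ (genericPoint C)) h ⧸ I) :=
    (Submodule.restrictScalars _ I).mkQ.comp
      (Submodule.mkQ (RingHom.ker (Cyc.specMap (Γ y) (Γ (genericPoint C)) h)))
  have hsurj : Function.Surjective f :=
    (Submodule.mkQ_surjective _).comp (Submodule.mkQ_surjective _)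
  have hker : ∀ r, r ∈ LinearMap.ker f ↔ π₁ r ∈ I := fun r => by
    rw [LinearMap.mem_ker]
    exact Submodule.Quotient.mk_eq_zero _
  have hmax : LinearMap.ker f = maximalIdeal (P.presheaf.stalk (Γ y)) := by
    have hle : I ≤ (maximalIdeal (P.presheaf.stalk (Γ y))).map π₁ := by
      rw [Ideal.map_le_iff_le_comap]
      intro c hc
      refine Ideal.mem_map_of_mem π₁ ?_
      exact map_nonunit (g.stalkMap (Γ y)).hom c hc
    refine le_antisymm (fun r hr => ?_) (fun r hr => (hker r).2 ?_)
    · obtain ⟨r', hr', he⟩ := (Ideal.mem_map_iff_of_surjective π₁ Ideal.Quotient.mk_surjective).1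
        (hle ((hker r).1 hr))
      have h1 : r - r' ∈ maximalIdeal (P.presheaf.stalk (Γ y)) :=
        le_maximalIdeal (RingHom.ker_ne_top _) (Ideal.Quotient.eq.1 he.symm)
      simpa using add_mem h1 hr'
    · have hiso : IsIso ((Γ ≫ g).stalkMap y) := by
        have : IsIso (Γ ≫ g) := by rw [hg]; infer_instance
        infer_instance
      rw [Scheme.Hom.stalkMap_comp] at hiso
      haveI := hiso
      obtain ⟨c', hc'⟩ := (@ConcreteCategory.bijective_of_isIso _ _ _ _ _ _ _ _
        (g.stalkMap (Γ y) ≫ Γ.stalkMap y) hiso).2 ((Γ.stalkMap y).hom r)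
      have hc'm : c' ∈ maximalIdeal (C.presheaf.stalk (g (Γ y))) := fun hu =>
        map_nonunit (Γ.stalkMap y).hom r hr (hc' ▸ hu.map (g.stalkMap (Γ y) ≫ Γ.stalkMap y).hom)
      have heq : π₁ r = π₁ ((g.stalkMap (Γ y)).hom c') := by
        rw [Ideal.Quotient.eq, ker_specMap_eq, RingHom.mem_ker, map_sub, sub_eq_zero]
        exact hc'.symm
      rw [heq]
      exact Ideal.mem_map_of_mem (π₁.comp (g.stalkMap (Γ y)).hom) hc'm
  have hlen : Module.length (P.presheaf.stalk (Γ y))
      (Cyc.LocQuot (Γ y) (Γ (genericPoint C)) h ⧸ I) = 1 := by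
    rw [← (LinearMap.quotKerEquivOfSurjective f hsurj).length_eq]
    refine Module.length_eq_one_iff.2 (isSimpleModule_iff_isCoatom.2 ?_)
    rw [hmax]
    exact Ideal.isMaximal_def.1 inferInstance
  exact congrArg ENat.toNat hlen

end Mult

section Family

variable {k : Type u} [Field k] {X C : Scheme.{u}} [DecidableEq X]
  (p : X ⟶ Spec (CommRingCat.of k)) (q : C ⟶ Spec (CommRingCat.of k))
  (ι : C ⟶ X) (hι : ι ≫ p = q)

/-- the graph -/
noncomputable def graph : C ⟶ pullback p q :=
  pullback.lift ι (𝟙 C) (by rw [hι, Category.id_comp])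

theorem isClosedImmersion_graph [IsClosedImmersion ι] [IsSeparated q] :
    IsClosedImmersion (graph p q ι hι) := by
  have hmap : IsClosedImmersion (pullback.map q q p q ι (𝟙 C) (𝟙 _)
      (by rw [Category.comp_id, hι]) (by simp)) :=
    MorphismProperty.pullbackMap (P := @IsClosedImmersion) (‹_› : IsClosedImmersion ι)
      (inferInstance : IsClosedImmersion (𝟙 C)) hι.symm (Category.id_comp q).symm
  have : graph p q ι hι = pullback.diagonal q ≫
      pullback.map q q p q ι (𝟙 C) (𝟙 _) (by rw [Category.comp_id, hι]) (by simp) := by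
    refine pullback.hom_ext ?_ ?_
    · rw [graph, pullback.lift_fst, Category.assoc, pullback.map, pullback.lift_fst,
        pullback.diagonal_fst_assoc]
    · rw [graph, pullback.lift_snd, Category.assoc, pullback.map, pullback.lift_snd,
        pullback.diagonal_snd_assoc]
  rw [this]
  infer_instance

/-- the member of the graph family at a point is that point -/
theorem fibreFun_graph [IsIntegral C] [IsClosedImmersion (graph p q ι hι)]
    (t : Spec (CommRingCat.of k) ⟶ C) (ht : t ≫ q = 𝟙 _) (x : X) :
    letI := Classical.decEq ↥(pullback p q)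
    AlgEqCyc.fibreFun p q
        (Function.locallyFinsuppWithin.single (graph p q ι hι (genericPoint C)) (1 : ℤ)) t ht x =
      (Function.locallyFinsuppWithin.single (ι (t (closedPoint k))) (1 : ℤ)) x := by
  classical
  let Γ := graph p q ι hι
  have hfst : Γ ≫ pullback.fst p q = ι := pullback.lift_fst _ _ _
  have hsnd : Γ ≫ pullback.snd p q = 𝟙 C := pullback.lift_snd _ _ _
  have hsl : t ≫ ι ≫ AlgEqCyc.slice p q t ht = t ≫ Γ := by
    refine pullback.hom_ext ?_ ?_
    · simp only [AlgEqCyc.slice, Γ, graph, Category.assoc, pullback.lift_fst, Category.comp_id]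
    · simp only [AlgEqCyc.slice, Γ, graph, Category.assoc, pullback.lift_snd, Category.comp_id]
      rw [reassoc_of% hι, reassoc_of% ht]
  have hiff : Γ (genericPoint C) ⤳ AlgEqCyc.slice p q t ht x ↔ x = ι (t (closedPoint k)) := by
    constructor
    · intro hs
      obtain ⟨y, hy⟩ : AlgEqCyc.slice p q t ht x ∈ Set.range Γ :=
        Γ.isClosedEmbedding.isClosed_range.stableUnderSpecialization hs ⟨_, rfl⟩
      have h2 : y = t (closedPoint k) := by
        have e := congrArg (pullback.snd p q) hy
        rw [← Scheme.Hom.comp_apply, ← Scheme.Hom.comp_apply, hsnd] at e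
        refine e.trans ?_
        rw [AlgEqCyc.slice, pullback.lift_snd, Scheme.Hom.comp_apply]
        exact congrArg t (Subsingleton.elim (p x) _)
      have e := congrArg (pullback.fst p q) hy
      rw [← Scheme.Hom.comp_apply, ← Scheme.Hom.comp_apply, hfst] at e
      rw [h2, AlgEqCyc.slice, pullback.lift_fst] at e
      exact e.symm
    · rintro rfl
      have e : AlgEqCyc.slice p q t ht (ι (t (closedPoint k))) = Γ (t (closedPoint k)) :=
        congr(($hsl).base (closedPoint k))
      rw [e]
      exact (genericPoint_specializes _).map Γ.continuous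
  rw [Function.locallyFinsuppWithin.single_apply]
  unfold AlgEqCyc.fibreFun
  split_ifs with hx
  · subst hx
    have hw : Γ (genericPoint C) ⤳ AlgEqCyc.slice p q t ht (ι (t (closedPoint k))) := hiff.2 rfl
    rw [finsum_eq_single _ ⟨Γ (genericPoint C), by simp [Γ], hw⟩]
    · show (Function.locallyFinsuppWithin.single (Γ (genericPoint C)) (1 : ℤ)) (Γ (genericPoint C)) * _ = _
      simp only [Function.locallyFinsuppWithin.single_apply, if_pos, one_mul]
      have e : AlgEqCyc.slice p q t ht (ι (t (closedPoint k))) = Γ (t (closedPoint k)) :=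
        congr(($hsl).base (closedPoint k))
      have key : ∀ (v : ↥(pullback p q)) (hv : Γ (genericPoint C) ⤳ v), v = Γ (t (closedPoint k)) →
          AlgEqCyc.fibreMult (pullback.snd p q) v (Γ (genericPoint C)) hv = 1 := by
        rintro v hv rfl
        exact fibreMult_section Γ _ hsnd _ hv
      rw [key _ hw e]
      rfl
    · rintro ⟨w, hw0, hw1⟩ hne
      exact absurd (Subtype.ext (by
        by_contra hc
        rw [Function.locallyFinsuppWithin.single_apply, if_neg hc] at hw0
        exact hw0 rfl)) hne
  · refine finsum_eq_zero_of_forall_eq_zero fun w => ?_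
    obtain ⟨w, hw0, hw1⟩ := w
    rw [Function.locallyFinsuppWithin.single_apply] at hw0
    by_cases hc : w = Γ (genericPoint C)
    · exact absurd (hiff.1 (hc ▸ hw1)) hx
    · exact absurd (if_neg hc) hw0

include hι in
/-- The difference of two rational points of a smooth projective curve in `X` is an elementary
algebraically trivial cycle. -/
theorem isElemAlgTriv_sub [IsClosedImmersion ι] (hs : Smooth q)
    (hp : Neron.IsProjectiveOver k (Over.mk q)) (hi : IsIntegral C)
    (hd : topologicalKrullDim C = 1) (t₁ t₂ : Spec (CommRingCat.of k) ⟶ C) (h₁ : t₁ ≫ q = 𝟙 _)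
    (h₂ : t₂ ≫ q = 𝟙 _) :
    AlgEqCyc.IsElemAlgTriv p
      (Function.locallyFinsuppWithin.single (ι (t₁ (closedPoint k))) (1 : ℤ) -
        Function.locallyFinsuppWithin.single (ι (t₂ (closedPoint k))) (1 : ℤ)) := by
  classical
  have hprop : IsProper q := Groth.ArSurfBasics.isProper_of_isProjectiveOver hp
  haveI := isClosedImmersion_graph p q ι hι
  refine ⟨C, q, hs, hp, hi, hd,
    Function.locallyFinsuppWithin.single (graph p q ι hι (genericPoint C)) (1 : ℤ),
    fun w hw => ?_, t₁, t₂, h₁, h₂, fun x => ?_⟩
  · rw [Function.locallyFinsuppWithin.single_apply] at hw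
    obtain rfl : w = graph p q ι hι (genericPoint C) := by
      by_contra hc
      exact hw (if_neg hc)
    rw [← Scheme.Hom.comp_apply, graph, pullback.lift_snd]
    exact genericPoint_closure _
  · have e1 := fibreFun_graph p q ι hι t₁ h₁ x
    have e2 := fibreFun_graph p q ι hι t₂ h₂ x
    rw [e1, e2]
    rfl

end Family

end Groth.AlgEqCycLib
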